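import Mathlib
import Cfsg.Agent.FastGrp
import Cfsg.Agent.Prune
set_option linter.all false
prune_inst 0x7f00000000000000000000000000000000000000000000000000000000000000000000000000000000000000000000000000000000000000000000000000000000000000000000000000000000000000003fffffffffffffffffffffffffffbeffbdffffffff
open scoped Cfsg.Agent.FastGrp

/-!
Criterion for the Guralnick-Malle-Navarro rows: `A` is a `p`-group of automorphisms of `S`
containing a Sylow `p`-subgroup of `S`; a homomorphism `ρ : Γ → Aut S` whose image contains `A`,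
a subgroup `X` of `Γ` of index prime to `p` and a homomorphism `ψ` from `X` to a `p'`-group which
is nontrivial on an element inducing an inner automorphism give a `p'`-element of `S` normalising
(and not centralising) `A`.
-/

set_option autoImplicit false

namespace Cfsg.Agent.H709.GmnCrit

open Subgroup

theorem psi_eq_one_of_pGroup {L C : Type*} [Group L] [Group C] {p : ℕ} [Fact p.Prime]
    [Finite C] (hC : ¬ p ∣ Nat.card C) (ψ : L →* C) {P : Subgroup L} (hP : IsPGroup p P) {x : L}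
    (hx : x ∈ P) : ψ x = 1 := by
  obtain ⟨k, hk⟩ := hP ⟨x, hx⟩
  have hk' : x ^ p ^ k = 1 := congrArg Subtype.val hk
  have h1 : ψ x ^ p ^ k = 1 := by rw [← map_pow, hk', map_one]
  have h2 : orderOf (ψ x) ∣ p ^ k := orderOf_dvd_of_pow_eq_one h1
  have h3 : orderOf (ψ x) ∣ Nat.card C := orderOf_dvd_natCard _
  have h4 : Nat.Coprime (p ^ k) (Nat.card C) :=
    Nat.Coprime.pow_left k ((Nat.Prime.coprime_iff_not_dvd Fact.out).2 hC)
  have h5 : orderOf (ψ x) = 1 := Nat.eq_one_of_dvd_coprimes h4 h2 h3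
  exact orderOf_eq_one_iff.1 h5

theorem pow_ne_one {C : Type*} [Group C] {p : ℕ} [Fact p.Prime]
    [Finite C] (hC : ¬ p ∣ Nat.card C) {c : C} (hc : c ≠ 1) (k : ℕ) : c ^ p ^ k ≠ 1 := by
  intro h1
  apply hc
  have h2 : orderOf c ∣ p ^ k := orderOf_dvd_of_pow_eq_one h1
  have h3 : orderOf c ∣ Nat.card C := orderOf_dvd_natCard _
  have h4 : Nat.Coprime (p ^ k) (Nat.card C) :=
    Nat.Coprime.pow_left k ((Nat.Prime.coprime_iff_not_dvd Fact.out).2 hC)
  exact orderOf_eq_one_iff.1 (Nat.eq_one_of_dvd_coprimes h4 h2 h3)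

theorem exists_pPrime_pow {L : Type*} [Group L] [Finite L] {p : ℕ} [Fact p.Prime] (y : L) :
    ∃ k : ℕ, ¬ p ∣ orderOf (y ^ p ^ k) := by
  obtain ⟨k, m, hm, hk⟩ := Nat.exists_eq_pow_mul_and_not_dvd (n := orderOf y)
    (orderOf_pos y).ne' p (Nat.Prime.ne_one Fact.out)
  refine ⟨k, ?_⟩
  rw [orderOf_pow, hk, Nat.gcd_mul_right_left, Nat.mul_div_cancel_left _
    (pow_pos (Nat.Prime.pos Fact.out) _)]
  exact hm

/-- Core of the criterion, inside a group `L`. -/
theorem core {S L C : Type*} [Group S] [Group L] [Finite L] [Group C] [Finite C] {p : ℕ}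
    [Fact p.Prime] (hC : ¬ p ∣ Nat.card C) (ρ : L →* MulAut S) (ψ : L →* C)
    (P₁ : Subgroup L) (hP₁ : IsPGroup p P₁) (A : Subgroup (MulAut S)) (hA : P₁.map ρ = A)
    (hmax : ∀ B : Subgroup (MulAut S), IsPGroup p B → A ≤ B → B ≤ ρ.range → B = A)
    (T : Subgroup L) (hTn : T.Normal) (hT : IsPGroup p T) (x : L) (hx : ψ x ≠ 1) :
    ∃ y : L, ¬ p ∣ orderOf y ∧ ρ y ∈ normalizer (A : Set (MulAut S)) ∧ ψ y ≠ 1 ∧ ∀ t ∈ T, ρ t ∈ A := by
  have hP₁K : P₁ ≤ ψ.ker := fun z hz => psi_eq_one_of_pGroup hC ψ hP₁ hz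
  have hTK : T ≤ ψ.ker := fun z hz => psi_eq_one_of_pGroup hC ψ hT hz
  have hTP : IsPGroup p (P₁ ⊔ T : Subgroup L) := by
    exact hP₁.to_sup_of_normal_right hT
  obtain ⟨P₂, hP₂⟩ := IsPGroup.exists_le_sylow (P := (P₁ ⊔ T).subgroupOf ψ.ker)
    (hTP.comap_of_injective ψ.ker.subtype (Subtype.val_injective))
  have hle : P₁ ⊔ T ≤ (P₂ : Subgroup ψ.ker).map ψ.ker.subtype := by
    rw [← Subgroup.map_subgroupOf_eq_of_le (sup_le hP₁K hTK)]
    exact Subgroup.map_mono hP₂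
  have hP₂p : IsPGroup p ((P₂ : Subgroup ψ.ker).map ψ.ker.subtype) := P₂.isPGroup'.map _
  have hB : ((P₂ : Subgroup ψ.ker).map ψ.ker.subtype).map ρ = A := by
    apply hmax
    · exact hP₂p.map _
    · rw [← hA]
      exact Subgroup.map_mono (le_sup_left.trans hle)
    · exact Subgroup.map_le_range _ _
  have hfr := Sylow.normalizer_sup_eq_top (N := ψ.ker) P₂
  have hx' : x ∈ normalizer (((P₂ : Subgroup ψ.ker).map ψ.ker.subtype : Subgroup L) : Set L) ⊔ ψ.ker := by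
    rw [hfr]; trivial
  obtain ⟨y, hy, k, hk, rfl⟩ := Subgroup.mem_sup_of_normal_right.1 hx'
  have hψy : ψ y ≠ 1 := by
    rw [map_mul, (MonoidHom.mem_ker).1 hk, mul_one] at hx
    exact hx
  obtain ⟨j, hj⟩ := exists_pPrime_pow (p := p) y
  refine ⟨y ^ p ^ j, hj, ?_, ?_, ?_⟩
  · rw [map_pow]
    apply Subgroup.pow_mem
    rw [← hB]
    exact Subgroup.le_normalizer_map ρ (Subgroup.mem_map_of_mem ρ hy)
  · rw [map_pow]
    exact pow_ne_one hC hψy j
  · intro t ht
    rw [← hB]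
    exact Subgroup.mem_map_of_mem ρ (hle (le_sup_right (a := P₁) ht))

/-- The group of inner automorphisms. -/
abbrev Inn (S : Type*) [Group S] : Subgroup (MulAut S) := (MulAut.conj : S →* MulAut S).range

theorem inn_normal (S : Type*) [Group S] : (Inn S).Normal := by
  constructor
  rintro _ ⟨s, rfl⟩ α
  refine ⟨α s, ?_⟩
  apply MulEquiv.ext
  intro x
  rw [MulAut.mul_apply, MulAut.mul_apply, MulAut.conj_apply, MulAut.conj_apply, map_mul, map_mul,
    map_inv]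
  have : α (α⁻¹ x) = x := α.apply_symm_apply x
  rw [this]

theorem conj_mul_left {S : Type*} [Group S] (α : MulAut S) (s : S) :
    α * MulAut.conj s * α⁻¹ = MulAut.conj (α s) := by
  apply MulEquiv.ext
  intro x
  rw [MulAut.mul_apply, MulAut.mul_apply, MulAut.conj_apply, MulAut.conj_apply, map_mul, map_mul,
    map_inv]
  have : α (α⁻¹ x) = x := α.apply_symm_apply x
  rw [this]

theorem conj_injective {S : Type*} [Group S] (hZ : Subgroup.center S = ⊥) :
    Function.Injective (MulAut.conj : S →* MulAut S) := by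
  rw [injective_iff_map_eq_one]
  intro s hs
  have : s ∈ Subgroup.center S := by
    rw [Subgroup.mem_center_iff]
    intro g
    have h1 : MulAut.conj s g = g := by rw [hs]; rfl
    rw [MulAut.conj_apply] at h1
    exact (mul_inv_eq_iff_eq_mul.1 h1).symm
  rw [hZ] at this
  exact this

/-- `p`-groups of automorphisms containing a Sylow subgroup of `S` are Sylow in `A · Inn S`. -/
theorem max_of_sylow {S : Type*} [Group S] (hZ : Subgroup.center S = ⊥) {p : ℕ} (Q : Sylow p S)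
    (A : Subgroup (MulAut S)) (hQ : (Q : Subgroup S).map MulAut.conj ≤ A)
    (B : Subgroup (MulAut S)) (hB : IsPGroup p B) (hAB : A ≤ B) (hBA : B ≤ A ⊔ Inn S) : B = A := by
  apply le_antisymm _ hAB
  have hD : IsPGroup p (B.comap (MulAut.conj : S →* MulAut S)) :=
    hB.comap_of_injective _ (conj_injective hZ)
  have hQD : (Q : Subgroup S) ≤ B.comap (MulAut.conj : S →* MulAut S) := by
    rw [← Subgroup.map_le_iff_le_comap]
    exact hQ.trans hAB
  have hDQ : B.comap (MulAut.conj : S →* MulAut S) = Q := Q.is_maximal' hD hQD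
  intro b hb
  have := inn_normal S
  obtain ⟨a, ha, c, ⟨s, rfl⟩, rfl⟩ := Subgroup.mem_sup_of_normal_right.1 (hBA hb)
  have h1 : (MulAut.conj s : MulAut S) ∈ B := (Subgroup.mul_mem_cancel_left B (hAB ha)).1 hb
  have h2 : s ∈ (Q : Subgroup S) := by rw [← hDQ]; exact h1
  exact A.mul_mem ha (hQ (Subgroup.mem_map_of_mem _ h2))

/-- The conclusion wanted for `A`: a `p'`-element of `S` which normalises but does not centralise
`A`. -/
def Good {S : Type*} [Group S] (p : ℕ) (A : Subgroup (MulAut S)) : Prop :=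
  ∃ h : S, ¬ p ∣ orderOf h ∧ MulAut.conj h ∈ normalizer (A : Set (MulAut S)) ∧
    ∃ a ∈ A, a * MulAut.conj h ≠ MulAut.conj h * a

theorem inner_of_mem_sup {S : Type*} [Group S] [Finite S] {p : ℕ} [Fact p.Prime]
    {A : Subgroup (MulAut S)} (hA : IsPGroup p A) {α : MulAut S} (hα : α ∈ A ⊔ Inn S)
    (ho : ¬ p ∣ orderOf α) : α ∈ Inn S := by
  have := inn_normal S
  obtain ⟨a, ha, c, hc, rfl⟩ := Subgroup.mem_sup_of_normal_right.1 hα
  obtain ⟨k, hk⟩ := hA ⟨a, ha⟩
  have hk' : a ^ p ^ k = 1 := congrArg Subtype.val hk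
  -- in the quotient, `a * c = a` has order dividing `p ^ k`
  have h1 : (a * c) ^ p ^ k ∈ Inn S := by
    rw [← QuotientGroup.eq_one_iff, QuotientGroup.mk_pow, QuotientGroup.mk_mul,
      (QuotientGroup.eq_one_iff c).2 hc, mul_one, ← QuotientGroup.mk_pow, hk']
    rfl
  have hcop : Nat.Coprime (p ^ k) (orderOf (a * c)) :=
    Nat.Coprime.pow_left k ((Nat.Prime.coprime_iff_not_dvd Fact.out).2 ho)
  obtain ⟨m, hm⟩ := exists_pow_eq_self_of_coprime hcop
  rw [← hm]
  exact Subgroup.pow_mem _ h1 m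

theorem good_of_conj {S : Type*} [Group S] {p : ℕ} {A : Subgroup (MulAut S)} (α : MulAut S)
    (h : Good p (A.map (MulAut.conj α).toMonoidHom)) : Good p A := by
  obtain ⟨s, h1, h2, a, ha, h3⟩ := h
  obtain ⟨b, hb, rfl⟩ := Subgroup.mem_map.1 ha
  have e : ∀ x : MulAut S, (MulAut.conj α).toMonoidHom x = α * x * α⁻¹ := fun x => rfl
  have hs : MulAut.conj s = α * MulAut.conj (α⁻¹ s) * α⁻¹ := by
    rw [conj_mul_left]
    congr 1
    exact (α.apply_symm_apply s).symm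
  refine ⟨α⁻¹ s, ?_, ?_, b, hb, ?_⟩
  · rwa [MulEquiv.orderOf_eq]
  · rw [Subgroup.mem_normalizer_iff_map_conj_eq] at h2 ⊢
    have h4 : (A.map (MulAut.conj α).toMonoidHom).map (MulAut.conj (MulAut.conj s)).toMonoidHom
        = (A.map (MulAut.conj (MulAut.conj (α⁻¹ s))).toMonoidHom).map (MulAut.conj α).toMonoidHom := by
      rw [Subgroup.map_map, Subgroup.map_map]
      congr 1
      ext1 x
      change MulAut.conj s * (α * x * α⁻¹) * (MulAut.conj s)⁻¹ = _
      rw [hs]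
      change _ = α * (MulAut.conj (α⁻¹ s) * x * (MulAut.conj (α⁻¹ s))⁻¹) * α⁻¹
      group
    have h5 := h4.symm.trans h2
    exact Subgroup.map_injective (MulAut.conj α).injective h5
  · intro h4
    apply h3
    rw [e, hs]
    have : b * MulAut.conj (α⁻¹ s) = MulAut.conj (α⁻¹ s) * b := h4
    calc α * b * α⁻¹ * (α * MulAut.conj (α⁻¹ s) * α⁻¹)
        = α * (b * MulAut.conj (α⁻¹ s)) * α⁻¹ := by group
      _ = _ := by rw [this]; group

/-- The criterion. -/
theorem good_of_index {S Γ C : Type*} [Group S] [Finite S] [Group Γ] [Finite Γ] [Group C] [Finite C]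
    {p : ℕ} [Fact p.Prime] (hZ : Subgroup.center S = ⊥) (hC : ¬ p ∣ Nat.card C)
    (ρ : Γ →* MulAut S) (X : Subgroup Γ) (ψ : X →* C) (hidx : ¬ p ∣ X.index)
    (T : Subgroup Γ) (hTX : T ≤ X) (hTp : IsPGroup p T)
    (hTn : ∀ y ∈ X, ∀ t ∈ T, y * t * y⁻¹ ∈ T) (hTi : ∀ t ∈ T, ρ t ∈ Inn S)
    (hT : ∀ y : X, ρ y ∈ Inn S → (∀ t ∈ T, ρ (y * t * (y : Γ)⁻¹) = ρ t) → ψ y = 1)
    (x : X) (hx : ρ x ∈ Inn S) (hψ : ψ x ≠ 1)
    (A : Subgroup (MulAut S)) (hA : IsPGroup p A) (hAρ : A ≤ ρ.range)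
    (Q : Sylow p S) (hQ : (Q : Subgroup S).map MulAut.conj ≤ A) : Good p A := by
  have hInn := inn_normal S
  -- a `p`-subgroup of `Γ` mapping onto `A`
  obtain ⟨P₀, hP₀, hP₀A⟩ : ∃ P₀ : Subgroup Γ, IsPGroup p P₀ ∧ P₀.map ρ = A := by
    let f : (A.comap ρ) →* A := (ρ.comp (A.comap ρ).subtype).codRestrict A (fun g => g.2)
    have hf : Function.Surjective f := by
      rintro ⟨a, ha⟩
      obtain ⟨g, rfl⟩ := hAρ ha
      exact ⟨⟨g, ha⟩, rfl⟩
    let R : Sylow p (A.comap ρ) := default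
    refine ⟨(R : Subgroup (A.comap ρ)).map (A.comap ρ).subtype, R.isPGroup'.map _, ?_⟩
    have h1 : (R : Subgroup (A.comap ρ)).map f = ⊤ := by
      have h2 : ((R.mapSurjective hf : Sylow p A) : Subgroup A) = ⊤ := by
        have := (R.mapSurjective hf).is_maximal' (Q := ⊤) (hA.to_subgroup ⊤ |>.of_equiv (MulEquiv.refl _)) le_top
        exact this.symm
      exact h2
    rw [Subgroup.map_map]
    have h3 : ρ.comp (A.comap ρ).subtype = A.subtype.comp f := rfl
    rw [h3, ← Subgroup.map_map, h1, ← MonoidHom.range_eq_map, Subgroup.range_subtype]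
  -- a fixed coset
  obtain ⟨γX, hγ⟩ := hP₀.nonempty_fixed_point_of_prime_not_dvd_card (Γ ⧸ X) hidx
  obtain ⟨γ, rfl⟩ := QuotientGroup.mk_surjective γX
  have hγ' : ∀ g ∈ P₀, γ⁻¹ * g * γ ∈ X := by
    intro g hg
    have h1 : (⟨g, hg⟩ : P₀) • (QuotientGroup.mk γ : Γ ⧸ X) = QuotientGroup.mk γ := hγ ⟨g, hg⟩
    have h2 : (QuotientGroup.mk (g * γ) : Γ ⧸ X) = QuotientGroup.mk γ := h1
    rw [eq_comm, QuotientGroup.eq] at h2
    rwa [← mul_assoc] at h2
  -- conjugate
  apply good_of_conj (ρ γ)⁻¹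
  set A₁ : Subgroup (MulAut S) := A.map (MulAut.conj (ρ γ)⁻¹).toMonoidHom with hA₁
  set P₁ : Subgroup Γ := P₀.map (MulAut.conj γ⁻¹).toMonoidHom with hP₁
  have hP₁p : IsPGroup p P₁ := hP₀.map _
  have hP₁X : P₁ ≤ X := by
    rintro _ ⟨g, hg, rfl⟩
    have := hγ' g hg
    change γ⁻¹ * g * γ⁻¹⁻¹ ∈ X
    rwa [inv_inv]
  have hP₁A : P₁.map ρ = A₁ := by
    rw [hP₁, hA₁, ← hP₀A, Subgroup.map_map, Subgroup.map_map]
    congr 1
    ext1 g
    change ρ (γ⁻¹ * g * γ⁻¹⁻¹) = (ρ γ)⁻¹ * ρ g * (ρ γ)⁻¹⁻¹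
    simp
  have hA₁p : IsPGroup p A₁ := hA.map _
  -- a Sylow subgroup inside `A₁`
  have hQ₁ : ((Q.comapOfInjective ((ρ γ) : S ≃* S).toMonoidHom (ρ γ : S ≃* S).injective (by
      intro s _
      obtain ⟨t, rfl⟩ := (ρ γ : S ≃* S).surjective s
      exact ⟨t, rfl⟩) : Sylow p S) : Subgroup S).map MulAut.conj ≤ A₁ := by
    rintro _ ⟨s, hs, rfl⟩
    have hs' : (ρ γ) s ∈ (Q : Subgroup S) := hs
    refine ⟨MulAut.conj ((ρ γ) s), hQ (Subgroup.mem_map_of_mem _ hs'), ?_⟩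
    change (ρ γ)⁻¹ * MulAut.conj ((ρ γ) s) * (ρ γ)⁻¹⁻¹ = _
    rw [conj_mul_left]
    congr 1
    exact (ρ γ).symm_apply_apply s
  -- the group `L`
  let I : Subgroup Γ := X ⊓ (Inn S).comap ρ
  let L : Subgroup Γ := P₁ ⊔ I
  have hLX : L ≤ X := sup_le hP₁X inf_le_left
  have hTL : T ≤ L := le_trans (le_inf hTX (fun t ht => hTi t ht)) le_sup_right
  have hrange : (ρ.comp L.subtype).range ≤ A₁ ⊔ Inn S := by
    rw [MonoidHom.range_comp, Subgroup.range_subtype, Subgroup.map_sup, hP₁A]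
    exact sup_le_sup_left ((Subgroup.map_mono inf_le_right).trans (Subgroup.map_comap_le _ _)) _
  obtain ⟨y, hy1, hy2, hy3, hy4⟩ := core hC (ρ.comp L.subtype) (ψ.comp (Subgroup.inclusion hLX))
    (P₁.subgroupOf L) (hP₁p.comap_of_injective L.subtype Subtype.val_injective) A₁ (by
      rw [← Subgroup.map_map]
      change ((P₁.subgroupOf L).map L.subtype).map ρ = A₁
      rw [Subgroup.map_subgroupOf_eq_of_le (le_sup_left : P₁ ≤ L), hP₁A])
    (fun B hB h1 h2 => max_of_sylow hZ _ A₁ hQ₁ B hB h1 (h2.trans hrange))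
    (T.subgroupOf L) (by
      constructor
      intro t ht y
      rw [Subgroup.mem_subgroupOf] at ht ⊢
      exact hTn _ (hLX y.2) _ ht)
    (hTp.comap_of_injective L.subtype Subtype.val_injective)
    ⟨x, (le_sup_right : I ≤ L) ⟨x.2, hx⟩⟩ hψ
  have hy5 : ρ y ∈ Inn S := by
    apply inner_of_mem_sup hA₁p (hrange ⟨y, rfl⟩)
    intro h
    exact hy1 (h.trans (orderOf_map_dvd (ρ.comp L.subtype) y))
  obtain ⟨s, hs⟩ := hy5
  refine ⟨s, ?_, ?_, ?_⟩
  · intro h
    apply hy1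
    refine h.trans ?_
    rw [← orderOf_injective _ (conj_injective hZ) s, hs]
    exact orderOf_map_dvd (ρ.comp L.subtype) y
  · rw [hs]
    exact hy2
  · by_contra hcon
    push Not at hcon
    apply hy3
    apply hT ⟨y, hLX y.2⟩ ⟨s, hs⟩
    intro t ht
    have h1 : ρ t ∈ A₁ := hy4 ⟨t, hTL ht⟩ ht
    have h2 := hcon _ h1
    rw [hs] at h2
    change ρ ((y : Γ) * t * (y : Γ)⁻¹) = ρ t
    rw [map_mul, map_mul, ← h2, mul_assoc, ← map_mul, mul_inv_cancel, map_one, mul_one]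

end Cfsg.Agent.H709.GmnCrit
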