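import Mathlib
import Cfsg.Agent.H709.GmnCrit
import Cfsg.Agent.H183.OutPSU
import Cfsg.Agent.S0277
import Cfsg.Agent.Prune
set_option linter.all false
prune_inst 0x7f00000000000000000000000000000000000000000000000000000000000000000000000000000000000000000000000000000000000000000000000000000000000000000000000000000000000000003fffffffffffffffffffffffffffbeffbdffffffff
open scoped Cfsg.Agent.FastGrp

-- part: H709/Mono
section
/-!
Monomial matrices.
-/

set_option autoImplicit false
set_option linter.unusedSectionVars false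

namespace Cfsg.Agent.H709.Mono

open Matrix

variable {ι F : Type*} [Fintype ι] [DecidableEq ι] [Field F]

/-- `A` is a monomial matrix with underlying permutation `π`. -/
def IsMono (A : Matrix ι ι F) (π : Equiv.Perm ι) : Prop := ∀ i j, i ≠ π j → A i j = 0

theorem isMono_one : IsMono (1 : Matrix ι ι F) 1 := by
  intro i j h
  exact Matrix.one_apply_ne h

theorem isMono_diagonal (d : ι → F) : IsMono (Matrix.diagonal d) 1 := by
  intro i j h
  exact Matrix.diagonal_apply_ne _ h

theorem IsMono.mul_apply {A B : Matrix ι ι F} {τ : Equiv.Perm ι} (hB : IsMono B τ) (i j : ι) :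
    (A * B) i j = A i (τ j) * B (τ j) j := by
  rw [Matrix.mul_apply, Finset.sum_eq_single (τ j)]
  · intro k _ hk
    rw [hB k j hk, mul_zero]
  · intro h
    exact (h (Finset.mem_univ _)).elim

theorem IsMono.mul {A B : Matrix ι ι F} {π τ : Equiv.Perm ι} (hA : IsMono A π) (hB : IsMono B τ) :
    IsMono (A * B) (π * τ) := by
  intro i j h
  rw [hB.mul_apply, hA i (τ j) h, zero_mul]

theorem IsMono.apply_ne_zero {A : GL ι F} {π : Equiv.Perm ι} (hA : IsMono (A : Matrix ι ι F) π) (j : ι) :
    (A : Matrix ι ι F) (π j) j ≠ 0 := by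
  intro h
  have h1 : (((A⁻¹ : GL ι F) : Matrix ι ι F) * (A : Matrix ι ι F)) j j = 1 := by
    rw [← Units.val_mul, inv_mul_cancel, Units.val_one, Matrix.one_apply_eq]
  rw [hA.mul_apply, h, mul_zero] at h1
  exact zero_ne_one h1

theorem IsMono.inv {A : GL ι F} {π : Equiv.Perm ι} (hA : IsMono (A : Matrix ι ι F) π) :
    IsMono ((A⁻¹ : GL ι F) : Matrix ι ι F) π⁻¹ := by
  intro i k h
  obtain ⟨j, rfl⟩ := π.surjective k
  have h : i ≠ π.symm (π j) := h
  rw [Equiv.symm_apply_apply] at h
  have h1 : (((A⁻¹ : GL ι F) : Matrix ι ι F) * (A : Matrix ι ι F)) i j = 0 := by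
    rw [← Units.val_mul, inv_mul_cancel, Units.val_one, Matrix.one_apply_ne h]
  rw [hA.mul_apply] at h1
  exact (mul_eq_zero.1 h1).resolve_right (hA.apply_ne_zero j)

theorem IsMono.unique {A : GL ι F} {π τ : Equiv.Perm ι} (hA : IsMono (A : Matrix ι ι F) π)
    (hA' : IsMono (A : Matrix ι ι F) τ) : π = τ := by
  ext j
  by_contra h
  exact hA.apply_ne_zero j (hA' (π j) j h)

theorem IsMono.map {A : Matrix ι ι F} {π : Equiv.Perm ι} (hA : IsMono A π) (σ : F ≃+* F) :
    IsMono (A.map σ) π := by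
  intro i j h
  rw [Matrix.map_apply, hA i j h, map_zero]

/-- The group of monomial matrices. -/
def monoGL (ι F : Type*) [Fintype ι] [DecidableEq ι] [Field F] : Subgroup (GL ι F) where
  carrier := {A | ∃ π, IsMono (A : Matrix ι ι F) π}
  one_mem' := ⟨1, isMono_one⟩
  mul_mem' := by
    rintro A B ⟨π, hπ⟩ ⟨τ, hτ⟩
    exact ⟨π * τ, hπ.mul hτ⟩
  inv_mem' := by
    rintro A ⟨π, hπ⟩
    exact ⟨π⁻¹, hπ.inv⟩

/-- The permutation underlying a monomial matrix. -/
noncomputable def perm (ι F : Type*) [Fintype ι] [DecidableEq ι] [Field F] : monoGL ι F →* Equiv.Perm ι where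
  toFun A := A.2.choose
  map_one' := IsMono.unique (A := (1 : GL ι F)) (monoGL ι F).one_mem.choose_spec isMono_one
  map_mul' A B := IsMono.unique (A := (A * B : GL ι F)) (monoGL ι F |>.mul_mem A.2 B.2).choose_spec
    (A.2.choose_spec.mul B.2.choose_spec)

theorem isMono_perm (A : monoGL ι F) : IsMono ((A : GL ι F) : Matrix ι ι F) (perm ι F A) :=
  A.2.choose_spec

theorem perm_eq {A : monoGL ι F} {π : Equiv.Perm ι} (h : IsMono ((A : GL ι F) : Matrix ι ι F) π) :
    perm ι F A = π := (isMono_perm A).unique h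

end Cfsg.Agent.H709.Mono

namespace Cfsg.Agent.H709.Mono

/-- A permutation of the coordinates fixing the `p`-torsion of the diagonal torus modulo scalars is
even. -/
theorem sign_eq_one {ι F : Type*} [Fintype ι] [DecidableEq ι] [Field F] {p : ℕ} (hp : p.Prime)
    (hp2 : p ≠ 2) {ζ : F} (hζ : IsPrimitiveRoot ζ p) (π : Equiv.Perm ι)
    (h : ∀ a : ι → F, (∀ i, a i ^ p = 1) → ∏ i, a i = 1 → ∃ c : F, ∀ j, a (π j) = c * a j) :
    Equiv.Perm.sign π = 1 := by
  by_cases h1 : ∀ i, π i = i
  · have : π = 1 := Equiv.ext h1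
    rw [this, map_one]
  push Not at h1
  obtain ⟨i, hi⟩ := h1
  have hζ0 : ζ ≠ 0 := hζ.ne_zero hp.ne_zero
  have hp3 : 3 ≤ p := by
    have := hp.two_le
    omega
  have hζ1 : ζ ≠ 1 := hζ.ne_one (by omega)
  have hζ2 : ζ ^ 2 ≠ 1 := by
    intro h2
    have := (hζ.pow_eq_one_iff_dvd 2).1 h2
    have := Nat.le_of_dvd (by norm_num) this
    omega
  have hζ4 : ζ ^ 4 ≠ 1 := by
    intro h2
    have h3 := (hζ.pow_eq_one_iff_dvd 4).1 h2
    have h4 : p ∣ 2 := hp.dvd_of_dvd_pow (show p ∣ 2 ^ 2 from h3)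
    have := Nat.le_of_dvd (by norm_num) h4
    omega
  obtain ⟨j, hj⟩ : ∃ j, j = π i := ⟨_, rfl⟩
  have hij : j ≠ i := by rw [hj]; exact hi
  let a : ι → F := fun k => if k = i then ζ else if k = j then ζ⁻¹ else 1
  have ai : a i = ζ := if_pos rfl
  have aj : a j = ζ⁻¹ := by
    change (if j = i then ζ else if j = j then ζ⁻¹ else 1) = _
    rw [if_neg hij, if_pos rfl]
  have ak : ∀ k, k ≠ i → k ≠ j → a k = 1 := by
    intro k h2 h3
    change (if k = i then ζ else if k = j then ζ⁻¹ else 1) = _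
    rw [if_neg h2, if_neg h3]
  have hap : ∀ k, a k ^ p = 1 := by
    intro k
    by_cases h2 : k = i
    · rw [h2, ai, hζ.pow_eq_one]
    by_cases h3 : k = j
    · rw [h3, aj, inv_pow, hζ.pow_eq_one, inv_one]
    rw [ak k h2 h3, one_pow]
  have haprod : ∏ k, a k = 1 := by
    rw [← Finset.prod_subset (Finset.subset_univ {i, j})]
    · rw [Finset.prod_pair hij.symm, ai, aj, mul_inv_cancel₀ hζ0]
    · intro k _ hk
      rw [Finset.mem_insert, Finset.mem_singleton, not_or] at hk
      exact ak k hk.1 hk.2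
  obtain ⟨c, hc⟩ := h a hap haprod
  have hc1 : c * ζ = ζ⁻¹ := by
    have := hc i
    rw [← hj, aj, ai] at this
    exact this.symm
  have hc2 : c = (ζ ^ 2)⁻¹ := by
    apply eq_inv_of_mul_eq_one_left
    rw [pow_two, ← mul_assoc, hc1, inv_mul_cancel₀ hζ0]
  -- `π j`
  have hπj := hc j
  rw [aj, hc2] at hπj
  have hk1 : π j ≠ i := by
    intro h2
    rw [h2, ai] at hπj
    apply hζ4
    field_simp at hπj
    linear_combination hπj
  have hk2 : π j ≠ j := by
    intro h2
    apply hij
    apply π.injective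
    rw [h2, hj]
  rw [ak _ hk1 hk2] at hπj
  have hζ3 : ζ ^ 3 = 1 := by
    field_simp at hπj
    linear_combination hπj
  have hcζ : c = ζ := by
    rw [hc2]
    apply inv_eq_of_mul_eq_one_left
    linear_combination hζ3
  have key : ∀ k, k ≠ i → k ≠ j → π k = i := by
    intro k h2 h3
    have h4 := hc k
    rw [ak k h2 h3, mul_one, hcζ] at h4
    by_contra h5
    by_cases h6 : π k = j
    · rw [h6, aj] at h4
      apply hζ2
      rw [pow_two]
      nth_rewrite 1 [← h4]
      exact inv_mul_cancel₀ hζ0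
    · rw [ak _ h5 h6] at h4
      exact hζ1 h4.symm
  have h3 : π ^ 3 = 1 := by
    have e : ∀ x, (π ^ 3) x = π (π (π x)) := fun x => rfl
    ext x
    rw [e, Equiv.Perm.one_apply]
    by_cases hx : x = i
    · rw [hx, ← hj]
      exact key _ hk1 hk2
    by_cases hx2 : x = j
    · rw [hx2, key _ hk1 hk2, ← hj]
    · have h4 : x = π j := π.injective ((key x hx hx2).trans (key _ hk1 hk2).symm)
      rw [key x hx hx2, ← hj, ← h4]
  have h4 := congrArg Equiv.Perm.sign h3
  rw [map_pow, map_one] at h4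
  rcases Int.units_eq_one_or (Equiv.Perm.sign π) with h5 | h5
  · exact h5
  · rw [h5] at h4
    exact absurd h4 (by decide)

end Cfsg.Agent.H709.Mono
end

-- part: H709/GmnPSU
section
/-!
`PSU_n(q)`, `p` an odd prime dividing `q + 1`: a `p`-group of automorphisms containing a Sylow
`p`-subgroup is normalised by a `p'`-element which does not centralise it.
-/

set_option autoImplicit false
set_option linter.unusedSectionVars false

namespace Cfsg.Agent.H709.GmnPSU

open Cfsg Matrix
open Cfsg.Agent.LieClassical.SUBasic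
open Cfsg.Agent.ClassicalGeometry.PSUAutCount Cfsg.Agent.ClassicalGeometry.UnitAutBasic
open Cfsg.Agent.H183.OutPSU Cfsg.Agent.H709.Mono Cfsg.Agent.H709.GmnCrit
open Cfsg.Agent.ClassicalGeometry.GUBasic

variable {F : Type*} [Field F] {q n : ℕ}

/-- field automorphisms acting on `GU` -/
def fieldHom (n q : ℕ) (F : Type*) [Field F] : (F ≃+* F) →* MulAut (GU n F q) where
  toFun ρ :=
    { toFun := fG ρ
      invFun := fG ρ.symm
      left_inv := fun A => gm_inj (by
        rw [gm_fG, gm_fG]
        ext i j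
        simp)
      right_inv := fun A => gm_inj (by
        rw [gm_fG, gm_fG]
        ext i j
        simp)
      map_mul' := fun A B => gm_inj (by
        rw [gm_mul, gm_fG, gm_fG, gm_fG, gm_mul]
        exact Matrix.map_mul (f := (ρ : F →+* F))) }
  map_one' := by
    apply MulEquiv.ext
    intro A
    apply gm_inj
    change gm (fG 1 A) = gm A
    rw [gm_fG]
    ext i j
    rfl
  map_mul' ρ τ := by
    apply MulEquiv.ext
    intro A
    apply gm_inj
    change gm (fG (ρ * τ) A) = gm (fG ρ (fG τ A))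
    rw [gm_fG, gm_fG, gm_fG]
    ext i j
    rfl

/-- the semilinear unitary group -/
abbrev Gam (n q : ℕ) (F : Type*) [Field F] : Type _ := GU n F q ⋊[fieldHom n q F] (F ≃+* F)

/-- action of the semilinear unitary group on `PSU` -/
def rho (n q : ℕ) (F : Type*) [Field F] : Gam n q F →* MulAut (PSU n F q) :=
  SemidirectProduct.lift (cG n q F) (sG n q F) (by
    intro ρ
    ext1 A
    change cG n q F (fG ρ A) = sG n q F ρ * cG n q F A * (sG n q F ρ)⁻¹
    rw [sG_mul_cG, mul_inv_cancel_right])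

theorem rho_apply (x : Gam n q F) : rho n q F x = toAut x.left x.right := by
  rw [toAut_eq]
  rfl

theorem rho_inl (A : GU n F q) : rho n q F (SemidirectProduct.inl A) = cG n q F A :=
  SemidirectProduct.lift_inl _ _ _ _

/-- The monomial subgroup. -/
def X (n q : ℕ) (F : Type*) [Field F] : Subgroup (Gam n q F) where
  carrier := {x | (x.left : GL (Fin n) F) ∈ monoGL (Fin n) F}
  one_mem' := (monoGL (Fin n) F).one_mem
  mul_mem' := by
    rintro x y ⟨π, hπ⟩ ⟨τ, hτ⟩
    exact ⟨π * τ, hπ.mul (hτ.map x.right)⟩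
  inv_mem' := by
    rintro x ⟨π, hπ⟩
    exact ⟨π⁻¹, (hπ.inv).map x.right⁻¹⟩

/-- the permutation of the frame -/
noncomputable def permX (n q : ℕ) (F : Type*) [Field F] : X n q F →* Equiv.Perm (Fin n) where
  toFun x := perm (Fin n) F ⟨((x : Gam n q F).left : GL (Fin n) F), x.2⟩
  map_one' := perm_eq isMono_one
  map_mul' x y := by
    apply perm_eq
    exact (isMono_perm ⟨((x : Gam n q F).left : GL (Fin n) F), x.2⟩).mul
      ((isMono_perm ⟨((y : Gam n q F).left : GL (Fin n) F), y.2⟩).map (x : Gam n q F).right)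

theorem isMono_permX (x : X n q F) : IsMono (gm (x : Gam n q F).left) (permX n q F x) :=
  isMono_perm ⟨((x : Gam n q F).left : GL (Fin n) F), x.2⟩

theorem permX_eq {x : X n q F} {π : Equiv.Perm (Fin n)} (h : IsMono (gm (x : Gam n q F).left) π) :
    permX n q F x = π := perm_eq h

/-- diagonal elements of order dividing `p` and determinant one -/
def T0 (n q : ℕ) (F : Type*) [Field F] (p : ℕ) : Subgroup (GU n F q) where
  carrier := {A | ∃ a : Fin n → F, (∀ i, a i ^ p = 1) ∧ ∏ i, a i = 1 ∧ gm A = diagonal a}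
  one_mem' := ⟨fun _ => 1, by simp, by simp, by rw [gm_one, diagonal_one]⟩
  mul_mem' := by
    rintro A B ⟨a, h1, h2, h3⟩ ⟨b, h4, h5, h6⟩
    refine ⟨fun i => a i * b i, fun i => by rw [mul_pow, h1, h4, one_mul], ?_, ?_⟩
    · rw [Finset.prod_mul_distrib, h2, h5, one_mul]
    · rw [gm_mul, h3, h6, diagonal_mul_diagonal]
  inv_mem' := by
    rintro A ⟨a, h1, h2, h3⟩
    refine ⟨fun i => (a i)⁻¹, fun i => by rw [inv_pow, h1, inv_one], ?_, ?_⟩
    · rw [Finset.prod_inv_distrib, h2, inv_one]
    · have h4 := gm_inv_mul A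
      rw [h3] at h4
      have h5 : diagonal a * diagonal (fun i => (a i)⁻¹) = 1 := by
        rw [diagonal_mul_diagonal, ← diagonal_one]
        congr 1
        funext i
        apply mul_inv_cancel₀
        intro h0
        have := Finset.prod_ne_zero_iff.1 (h2.symm ▸ one_ne_zero : ∏ i, a i ≠ 0) i (Finset.mem_univ i)
        exact this h0
      calc gm A⁻¹ = gm A⁻¹ * (diagonal a * diagonal (fun i => (a i)⁻¹)) := by rw [h5, mul_one]
        _ = _ := by rw [← mul_assoc, h4, one_mul]


theorem val_term {p q : ℕ} [hp : Fact p.Prime] (hp2 : p ≠ 2) (hq : 2 ≤ q) (hpq : p ∣ q + 1) (i : ℕ) :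
    padicValNat p (if Even i then q ^ (i + 1) + 1 else q ^ (i + 1) - 1) =
      padicValNat p (q + 1) + padicValNat p (i + 1) := by
  have hodd : Odd p := hp.out.odd_of_ne_two hp2
  have hpq' : ¬ p ∣ q := by
    intro h
    have := (Nat.dvd_add_right h).1 hpq
    exact hp.out.one_lt.ne' (Nat.dvd_one.1 this)
  split_ifs with h
  · have h1 : Odd (i + 1) := h.add_one
    have := padicValNat.pow_add_pow (p := p) hodd (x := q) (y := 1) hpq hpq' h1
    rwa [one_pow] at this
  · obtain ⟨m, hm⟩ : ∃ m, i + 1 = 2 * m := by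
      have h1 : Even (i + 1) := (Nat.not_even_iff_odd.1 h).add_one
      obtain ⟨m, hm⟩ := h1
      exact ⟨m, by omega⟩
    have hm0 : m ≠ 0 := by omega
    have e : q ^ 2 - 1 = (q + 1) * (q - 1) := by
      have := Nat.sq_sub_sq q 1
      simpa using this
    have hq1 : ¬ p ∣ q - 1 := by
      intro h2
      have h3 : p ∣ (q + 1) - (q - 1) := Nat.dvd_sub hpq h2
      have h4 : (q + 1) - (q - 1) = 2 := by omega
      rw [h4] at h3
      exact hp2 ((Nat.prime_dvd_prime_iff_eq hp.out Nat.prime_two).1 h3)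
    have h5 := padicValNat.pow_sub_pow (p := p) hodd (x := q ^ 2) (y := 1)
      (by
        have : 2 ^ 2 ≤ q ^ 2 := Nat.pow_le_pow_left hq 2
        omega)
      (by rw [e]; exact Dvd.dvd.mul_right hpq _) (fun h6 => hpq' (hp.out.dvd_of_dvd_pow h6)) hm0
    rw [one_pow, ← pow_mul] at h5
    rw [hm, h5, e, padicValNat.mul (by omega) (by omega), padicValNat.eq_zero_of_not_dvd hq1, add_zero,
      padicValNat.mul (by omega) hm0, padicValNat.eq_zero_of_not_dvd (fun h6 =>
        hp2 ((Nat.prime_dvd_prime_iff_eq hp.out Nat.prime_two).1 h6)), zero_add]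

theorem val_prod {p q : ℕ} [hp : Fact p.Prime] (hp2 : p ≠ 2) (hq : 2 ≤ q) (hpq : p ∣ q + 1) (n : ℕ) :
    (∏ i ∈ Finset.range n, (if Even i then q ^ (i + 1) + 1 else q ^ (i + 1) - 1)) ≠ 0 ∧
    padicValNat p (∏ i ∈ Finset.range n, (if Even i then q ^ (i + 1) + 1 else q ^ (i + 1) - 1)) =
      padicValNat p ((q + 1) ^ n * n.factorial) := by
  induction n with
  | zero => simp
  | succ n ih =>
    obtain ⟨ih1, ih2⟩ := ih
    have h0 : (if Even n then q ^ (n + 1) + 1 else q ^ (n + 1) - 1) ≠ 0 := by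
      split_ifs
      · omega
      · have : 2 ^ (n + 1) ≤ q ^ (n + 1) := Nat.pow_le_pow_left hq _
        have : 2 ≤ 2 ^ (n + 1) := by
          rw [pow_succ]
          have := Nat.one_le_two_pow (n := n)
          omega
        omega
    rw [Finset.prod_range_succ]
    refine ⟨mul_ne_zero ih1 h0, ?_⟩
    rw [padicValNat.mul ih1 h0, ih2, val_term hp2 hq hpq, Nat.factorial_succ, pow_succ]
    have h1 : (q + 1) ^ n ≠ 0 := pow_ne_zero _ (by omega)
    have h2 : n.factorial ≠ 0 := Nat.factorial_ne_zero n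
    rw [padicValNat.mul h1 h2, padicValNat.mul (mul_ne_zero h1 (by omega)) (mul_ne_zero (by omega) h2),
      padicValNat.mul h1 (by omega), padicValNat.mul (by omega) h2]
    ring


/-- monomial matrices in `GU` -/
def NU (n q : ℕ) (F : Type*) [Field F] : Subgroup (GU n F q) :=
  (monoGL (Fin n) F).comap (GU n F q).subtype

noncomputable def permU (n q : ℕ) (F : Type*) [Field F] : NU n q F →* Equiv.Perm (Fin n) :=
  (perm (Fin n) F).comp (((GU n F q).subtype.comp (NU n q F).subtype).codRestrict (monoGL (Fin n) F)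
    (fun x => x.2))

theorem permU_eq {A : NU n q F} {π : Equiv.Perm (Fin n)} (h : IsMono (gm (A : GU n F q)) π) :
    permU n q F A = π := perm_eq h

theorem isMono_guPerm (τ : Equiv.Perm (Fin n)) : IsMono (gm (guPerm q τ : GU n F q)) τ⁻¹ := by
  intro i j h
  change τ.permMatrix F i j = 0
  rw [Equiv.Perm.permMatrix, PEquiv.toMatrix_apply, if_neg]
  intro h1
  apply h
  have h2 : τ i = j := by simpa using h1
  rw [← h2]
  exact (τ.symm_apply_apply i).symm

theorem permU_surjective : Function.Surjective (permU n q F) := by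
  intro τ
  refine ⟨⟨guPerm q τ⁻¹, τ, ?_⟩, ?_⟩
  · have := isMono_guPerm (F := F) (q := q) τ⁻¹
    rwa [inv_inv] at this
  · apply permU_eq
    have := isMono_guPerm (F := F) (q := q) τ⁻¹
    rwa [inv_inv] at this

theorem card_dvd_NU [Fintype F] (hF : Fintype.card F = q ^ 2) :
    (q + 1) ^ n * n.factorial ∣ Nat.card (NU n q F) := by
  have hfin : Finite (GU n F q) := LieClassical.GUOrder.finite_GU n
  have h1 : Nat.card (NU n q F) = Nat.card (permU n q F).ker * n.factorial := by
    have hc : Nat.card (Equiv.Perm (Fin n)) = n.factorial := by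
      rw [Nat.card_eq_fintype_card, Fintype.card_perm, Fintype.card_fin]
    rw [← Subgroup.card_mul_index (permU n q F).ker, Subgroup.index_ker,
      MonoidHom.range_eq_top.2 permU_surjective, Subgroup.card_top, hc]
  rw [h1]
  apply Nat.mul_dvd_mul_right
  let E := (powMonoidHom (q + 1) : Fˣ →* Fˣ).ker
  have hE : Nat.card (Fin n → E) = (q + 1) ^ n := by
    rw [Nat.card_fun, Nat.card_fin, LieClassical.GUOrder.card_ker_pow hF]
  have hpow : ∀ (a : Fin n → E) (i : Fin n), (((a i : E) : Fˣ) : F) ^ (q + 1) = 1 := by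
    intro a i
    have h2 : ((a i : E) : Fˣ) ^ (q + 1) = 1 := (a i).2
    rw [← Units.val_pow_eq_pow_val, h2, Units.val_one]
  let D : (Fin n → E) →* (permU n q F).ker :=
    { toFun := fun a => ⟨⟨guDiag q (fun i => (((a i : E) : Fˣ) : F)) (hpow a), 1, isMono_diagonal _⟩,
        permU_eq (isMono_diagonal _)⟩
      map_one' := by
        apply Subtype.ext
        apply Subtype.ext
        apply gm_inj
        exact diagonal_one
      map_mul' := by
        intro a b
        apply Subtype.ext
        apply Subtype.ext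
        apply gm_inj
        exact (diagonal_mul_diagonal _ _).symm }
  rw [← hE]
  apply Subgroup.card_dvd_of_injective D
  intro a b hab
  have h2 : diagonal (fun i => (((a i : E) : Fˣ) : F)) = diagonal (fun i => (((b i : E) : Fˣ) : F)) :=
    congrArg (fun x : (permU n q F).ker => gm ((x : NU n q F) : GU n F q)) hab
  funext i
  exact Subtype.ext (Units.ext (congrFun (diagonal_injective h2) i))

theorem index_X [Fintype F] (hF : Fintype.card F = q ^ 2) {p : ℕ} [hp : Fact p.Prime]
    (hp2 : p ≠ 2) (hpq : p ∣ q + 1) : ¬ p ∣ (X n q F).index := by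
  have hfin : Finite (GU n F q) := LieClassical.GUOrder.finite_GU n
  have hfinR : Finite (F ≃+* F) :=
    Finite.of_injective (fun α : F ≃+* F => (α : F → F))
      (fun α β h => RingEquiv.ext fun x => congrFun h x)
  have hq : 2 ≤ q := LieClassical.GUOrder.two_le hF
  have hpq' : ¬ p ∣ q := by
    intro h
    have := (Nat.dvd_add_right h).1 hpq
    exact hp.out.one_lt.ne' (Nat.dvd_one.1 this)
  have e1 : Nat.card (Gam n q F) = Nat.card (GU n F q) * Nat.card (F ≃+* F) := by
    rw [← Nat.card_prod]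
    exact Nat.card_congr SemidirectProduct.equivProd
  have e2 : Nat.card (X n q F) = Nat.card (NU n q F) * Nat.card (F ≃+* F) := by
    rw [← Nat.card_prod]
    exact Nat.card_congr
      { toFun := fun x => (⟨(x : Gam n q F).left, x.2⟩, (x : Gam n q F).right)
        invFun := fun x => ⟨⟨(x.1 : GU n F q), x.2⟩, x.1.2⟩
        left_inv := fun x => rfl
        right_inv := fun x => rfl }
  have e3 := Subgroup.card_mul_index (X n q F)
  rw [e1, e2] at e3
  have hR : 0 < Nat.card (F ≃+* F) := Nat.card_pos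
  have e4 : Nat.card (NU n q F) * (X n q F).index = Nat.card (GU n F q) := by
    apply Nat.eq_of_mul_eq_mul_right hR
    rw [← e3]
    ring
  intro hdvd
  obtain ⟨h1, h2⟩ := val_prod (q := q) hp2 hq hpq n
  have h3 : Nat.card (GU n F q) = q ^ (n * (n - 1) / 2) * ∏ i ∈ Finset.range n,
      (if Even i then q ^ (i + 1) + 1 else q ^ (i + 1) - 1) := Cfsg.Agent.S0277.result hF n
  have h4 : padicValNat p (Nat.card (GU n F q)) = padicValNat p ((q + 1) ^ n * n.factorial) := by
    rw [h3, padicValNat.mul (pow_ne_zero _ (by omega)) h1, h2,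
      padicValNat.eq_zero_of_not_dvd (fun h => hpq' (hp.out.dvd_of_dvd_pow h)), zero_add]
  have h5 : (q + 1) ^ n * n.factorial * p ∣ Nat.card (GU n F q) := by
    rw [← e4]
    exact Nat.mul_dvd_mul (card_dvd_NU hF) hdvd
  have h6 : Nat.card (GU n F q) ≠ 0 := Nat.card_pos.ne'
  have h7 : padicValNat p ((q + 1) ^ n * n.factorial * p) ≤ padicValNat p (Nat.card (GU n F q)) :=
    padicValNat_dvd_iff_le h6 |>.1 ((pow_padicValNat_dvd).trans h5)
  rw [padicValNat.mul (mul_ne_zero (pow_ne_zero _ (by omega)) (Nat.factorial_ne_zero n)) hp.out.ne_zero,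
    padicValNat.self hp.out.one_lt, ← h4] at h7
  omega


theorem T_conj {m : GU n F q} {π : Equiv.Perm (Fin n)} (hm : IsMono (gm m) π) {D : GU n F q}
    {a : Fin n → F} (hD : gm D = diagonal a) :
    gm (m * D * m⁻¹) = diagonal (fun i => a (π⁻¹ i)) := by
  have h1 : gm m * diagonal a = diagonal (fun i => a (π⁻¹ i)) * gm m := by
    ext i j
    rw [mul_diagonal, diagonal_mul]
    by_cases h : i = π j
    · subst h
      have : π⁻¹ (π j) = j := π.symm_apply_apply j
      rw [this, mul_comm]
    · rw [hm i j h, zero_mul, mul_zero]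
  rw [gm_mul, gm_mul, hD, h1, mul_assoc, gm_mul_inv, mul_one]

theorem cG_inner {A : GU n F q} (h : (gm A).det = 1) : cG n q F A ∈ Inn (PSU n F q) := by
  obtain ⟨g, hg⟩ := exists_SU_of_det A h
  exact ⟨pr n F q g, (cG_of_SU g A hg).symm⟩

/-- The matrix `(0 1; -1 0) ⊕ 1`. -/
theorem exists_swap [Fintype F] (hF : Fintype.card F = q ^ 2) (hn : 2 ≤ n) : ∃ A : GU n F q,
    IsMono (gm A) (Equiv.swap (⟨0, by omega⟩ : Fin n) ⟨1, by omega⟩) ∧ (gm A).det = 1 := by
  obtain ⟨i0, hi0⟩ : ∃ i0 : Fin n, i0 = ⟨0, by omega⟩ := ⟨_, rfl⟩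
  obtain ⟨i1, hi1⟩ : ∃ i1 : Fin n, i1 = ⟨1, by omega⟩ := ⟨_, rfl⟩
  rw [← hi0, ← hi1]
  have h01 : i0 ≠ i1 := by
    rw [hi0, hi1]
    intro h
    have := congrArg Fin.val h
    exact absurd this (by norm_num)
  have hneg : (-1 : F) ^ q = -1 := by
    rw [← LieClassical.GUOrder.frob_apply hF, map_neg, map_one]
  have ha : ∀ i, (fun i : Fin n => if i = i0 then (-1 : F) else 1) i ^ (q + 1) = 1 := by
    intro i
    simp only
    split_ifs
    · rw [pow_succ, hneg]; ring
    · exact one_pow _
  refine ⟨guDiag q _ ha * guPerm q (Equiv.swap i0 i1), ?_, ?_⟩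
  · have h1 := (isMono_diagonal (fun i : Fin n => if i = i0 then (-1 : F) else 1)).mul
      (isMono_guPerm (q := q) (Equiv.swap i0 i1))
    rw [one_mul, Equiv.swap_inv] at h1
    exact h1
  · rw [gm_mul, det_mul]
    have h1 : (gm (guDiag q _ ha : GU n F q)).det = -1 := by
      change (diagonal (fun i : Fin n => if i = i0 then (-1 : F) else 1)).det = -1
      rw [det_diagonal, Finset.prod_ite_eq' Finset.univ i0 (fun _ => (-1 : F)), if_pos (Finset.mem_univ _)]
    have h2 : (gm (guPerm q (Equiv.swap i0 i1) : GU n F q)).det = -1 := by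
      change ((Equiv.swap i0 i1).permMatrix F).det = -1
      rw [det_permutation, Equiv.Perm.sign_swap h01]
      simp
    rw [h1, h2]
    ring

theorem gm_pow (A : GU n F q) (k : ℕ) : gm (A ^ k) = gm A ^ k := by
  induction k with
  | zero => rfl
  | succ k ih => rw [pow_succ, gm_mul, ih, pow_succ]

theorem conj_inl (y : Gam n q F) (D : GU n F q) :
    y * SemidirectProduct.inl D * y⁻¹ = SemidirectProduct.inl (y.left * fG y.right D * y.left⁻¹) := by
  have h1 : y * SemidirectProduct.inl D = SemidirectProduct.inl (y.left * fG y.right D * y.left⁻¹) * y := by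
    apply SemidirectProduct.ext
    · rw [SemidirectProduct.mul_left, SemidirectProduct.mul_left, SemidirectProduct.left_inl,
        SemidirectProduct.left_inl, SemidirectProduct.right_inl, map_one, MulAut.one_apply,
        inv_mul_cancel_right]
      rfl
    · rw [SemidirectProduct.mul_right, SemidirectProduct.mul_right, SemidirectProduct.right_inl,
        SemidirectProduct.right_inl, mul_one, one_mul]
  rw [h1, mul_inv_cancel_right]

/-- **Row** `PSU_n(q)`, `p ∣ q + 1`. -/
theorem good {K : Type*} [Field K] [Fintype K] {n q : ℕ} (hK : Fintype.card K = q ^ 2) (hn : 3 ≤ n)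
    (h32 : ¬ (n = 3 ∧ q = 2)) {p : ℕ} [hp : Fact p.Prime] (hp2 : p ≠ 2) (hpq : p ∣ q + 1)
    (A : Subgroup (MulAut (PSU n K q))) (hA : IsPGroup p A) (Q : Sylow p (PSU n K q))
    (hQ : (Q : Subgroup (PSU n K q)).map MulAut.conj ≤ A) : Good p A := by
  classical
  have hfin : Finite (GU n K q) := LieClassical.GUOrder.finite_GU n
  have hfinP : Finite (PSU n K q) := Finite.of_surjective _ (pr_surjective (n := n) (F := K) (q := q))
  have hfinR : Finite (K ≃+* K) :=
    Finite.of_injective (fun α : K ≃+* K => (α : K → K))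
      (fun α β h => RingEquiv.ext fun x => congrFun h x)
  have hfinG : Finite (Gam n q K) := Finite.of_equiv _ SemidirectProduct.equivProd.symm
  have hsimple : IsSimpleGroup (PSU n K q) := Cfsg.Agent.S0283.result hK n hn h32
  have hperf : commutator (PSU n K q) = ⊤ := by
    have h3 := Cfsg.Agent.LieClassical.HermPerfect.commutator_SU_eq_top hK hn h32
    have h4 : (commutator (SU n K q)).map (pr n K q) = commutator (PSU n K q) := by
      rw [commutator_def, commutator_def, Subgroup.map_commutator, ← MonoidHom.range_eq_map,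
        MonoidHom.range_eq_top.2 pr_surjective]
    rw [← h4, h3, ← MonoidHom.range_eq_map, MonoidHom.range_eq_top.2 pr_surjective]
  have hZ := center_eq_bot_of_perfect hperf
  have hsurj := Cfsg.Agent.ClassicalGeometry.PSUAutMain.exists_toAut hK hn h32
  -- a primitive `p`-th root of unity
  obtain ⟨ζ, hζ⟩ : ∃ ζ : K, IsPrimitiveRoot ζ p := by
    have h1 : p ∣ Nat.card Kˣ := by
      rw [Nat.card_eq_fintype_card, Fintype.card_units, hK]
      have e : q ^ 2 - 1 = (q + 1) * (q - 1) := by
        have := Nat.sq_sub_sq q 1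
        simpa using this
      rw [e]
      exact Dvd.dvd.mul_right hpq _
    obtain ⟨u, hu⟩ := exists_prime_orderOf_dvd_card' p h1
    refine ⟨u, ?_⟩
    rw [IsPrimitiveRoot.coe_units_iff, ← hu]
    exact IsPrimitiveRoot.orderOf u
  obtain ⟨w, hw1, hw2⟩ := exists_swap hK (n := n) (by omega)
  have hsign : ∀ x : X n q K, Equiv.Perm.sign (permX n q K x) = 1 ∨
      Equiv.Perm.sign (permX n q K x) = -1 := fun x => Int.units_eq_one_or _
  refine good_of_index (p := p) hZ (C := ℤˣ) ?_ (rho n q K) (X n q K)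
    (Equiv.Perm.sign.comp (permX n q K)) (index_X hK hp2 hpq)
    ((T0 n q K p).map SemidirectProduct.inl) ?_ ?_ ?_ ?_ ?_
    ⟨SemidirectProduct.inl w, _, hw1⟩ ?_ ?_ A hA ?_ Q hQ
  · rw [Nat.card_eq_fintype_card, Fintype.card_units_int]
    intro h
    exact hp2 ((Nat.prime_dvd_prime_iff_eq hp.out Nat.prime_two).1 h)
  · rintro _ ⟨D, ⟨a, -, -, ha⟩, rfl⟩
    refine ⟨1, ?_⟩
    change IsMono (gm D) 1
    rw [ha]
    exact isMono_diagonal a
  · apply IsPGroup.map
    rintro ⟨D, a, h1, h2, h3⟩
    refine ⟨1, ?_⟩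
    apply Subtype.ext
    apply gm_inj
    change gm (D ^ p ^ 1) = 1
    rw [pow_one, gm_pow, h3, diagonal_pow, ← diagonal_one]
    congr 1
    funext i
    exact h1 i
  · rintro y ⟨π, hπ⟩ _ ⟨D, ⟨a, h1, h2, h3⟩, rfl⟩
    rw [conj_inl]
    refine ⟨_, ⟨fun i => y.right (a (π⁻¹ i)), ?_, ?_, ?_⟩, rfl⟩
    · intro i
      rw [← map_pow, h1, map_one]
    · rw [← map_prod, Equiv.prod_comp π⁻¹ a, h2, map_one]
    · have h4 : gm (fG y.right D) = diagonal (fun i => y.right (a i)) := by
        rw [gm_fG, h3, diagonal_map (map_zero _)]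
      exact T_conj hπ h4
  · rintro _ ⟨D, ⟨a, h1, h2, h3⟩, rfl⟩
    rw [rho_inl]
    apply cG_inner
    rw [h3, det_diagonal, h2]
  · intro y hy hyT
    change Equiv.Perm.sign (permX n q K y) = 1
    have hmono := isMono_permX y
    -- `y` induces an inner automorphism, hence is linear
    obtain ⟨g, hg⟩ := hy
    obtain ⟨g, rfl⟩ := pr_surjective g
    obtain ⟨B, hB⟩ := exists_GU_of_SU g
    rw [rho_apply, ← cG_of_SU g B hB, cG_apply] at hg
    have hσ : (y : Gam n q K).right = 1 := (eq_of_toAut_eq hK hn hg).1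
    apply sign_eq_one hp.out hp2 hζ
    intro a ha1 ha2
    -- the diagonal element
    have haq : ∀ i, a i ^ (q + 1) = 1 := by
      intro i
      obtain ⟨m, hm⟩ := hpq
      rw [hm, pow_mul, ha1, one_pow]
    have h5 := hyT (SemidirectProduct.inl (guDiag q a haq)) ⟨guDiag q a haq, ⟨a, ha1, ha2, rfl⟩, rfl⟩
    rw [conj_inl, rho_inl, rho_inl, cG_apply, cG_apply] at h5
    obtain ⟨-, c, hc, h6⟩ := eq_of_toAut_eq hK hn h5
    have h7 : gm (fG (y : Gam n q K).right (guDiag q a haq)) = diagonal a := by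
      rw [hσ, gm_fG]
      change (diagonal a).map _ = diagonal a
      rw [diagonal_map (map_zero _)]
      rfl
    rw [T_conj hmono h7] at h6
    refine ⟨c, ?_⟩
    intro j
    have h8 := congrFun (congrFun h6 (permX n q K y j)) (permX n q K y j)
    rw [Matrix.smul_apply, diagonal_apply_eq, smul_eq_mul] at h8
    have h9 : (permX n q K y)⁻¹ (permX n q K y j) = j := (permX n q K y).symm_apply_apply j
    rw [h9] at h8
    rw [← h8]
    change a _ = diagonal a _ _
    rw [diagonal_apply_eq]
  · change rho n q K (SemidirectProduct.inl w) ∈ _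
    rw [rho_inl]
    exact cG_inner hw2
  · change Equiv.Perm.sign (permX n q K _) ≠ 1
    have h1 : permX n q K ⟨SemidirectProduct.inl w, _, hw1⟩ = _ := permX_eq hw1
    rw [h1, Equiv.Perm.sign_swap]
    · decide
    · intro h
      have := congrArg Fin.val h
      exact absurd this (by norm_num)
  · intro α _
    obtain ⟨B, σ, rfl⟩ := hsurj α
    exact ⟨⟨B, σ⟩, rho_apply _⟩

end Cfsg.Agent.H709.GmnPSU
end
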